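import Cfsg.Agent.H725.BR.Tool
import Cfsg.Agent.H494.B0R.Inst
import Cfsg.Agent.H839.Rec.HNFacts
import Cfsg.Agent.H657.Frob.Main
import Cfsg.Agent.H646.BR.Congr

/-!
# Rows of the Harada–Norton group for 7 and 11 (helper725)
-/

set_option autoImplicit false
set_option maxRecDepth 100000

open Subgroup

namespace Cfsg.Agent.H725.BR.HN

open Cfsg Cfsg.Agent.H145.BR Cfsg.Agent.H713.B0R Cfsg.Agent.H537.Cop
open Cfsg.Agent.CpAutHN.Alt (Φ Φ_inj A12 cy)
open Cfsg.Agent.H845.HNSeven (c7 c7_mem X7 order_X7)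
open Equiv.Perm (mem_alternatingGroup)

universe u

theorem frobAt {p : ℕ} (hp : p.Prime) (hp2 : p ≠ 2) {G : Type u} [Group G] [Finite G] (h1 : p ∣ Nat.card G)
    (h2 : ¬ p ^ 2 ∣ Nat.card G) : FrobAt p G := by
  have := Fact.mk hp
  exact fun M hM => H657.Frob.frob hM hp2 h1 h2

theorem card_eq : Nat.card Spor.HN = 2 ^ 14 * 3 ^ 6 * 5 ^ 6 * 7 * 11 * 19 := by
  rw [H839.Rec.HN.card_HN]
  norm_num

/-- an element of order 6 inducing an automorphism of order 6 on `⟨(0 1 2 3 4 5 6)⟩` -/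
def h6 : Equiv.Perm (Fin 12) := cy [1, 3, 2, 6, 4, 5] * Equiv.swap 7 8

theorem h6_mem : h6 ∈ alternatingGroup (Fin 12) := by rw [mem_alternatingGroup]; decide +kernel

theorem h6_conj : h6 * c7 * h6⁻¹ = c7 ^ 3 := by decide +kernel

theorem exists_three : ∃ h : Spor.HN, h * X7 * h⁻¹ = X7 ^ 3 := by
  refine ⟨Φ ⟨h6, h6_mem⟩, ?_⟩
  unfold X7
  rw [← map_mul, ← map_inv, ← map_mul, ← map_pow]
  exact congrArg Φ (Subtype.ext h6_conj)

theorem real_seven : IsConj X7 X7⁻¹ := by
  obtain ⟨h, hh⟩ := exists_three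
  refine isConj_iff.2 ⟨h ^ 3, ?_⟩
  have h1 : ∀ n : ℕ, h ^ n * X7 * (h ^ n)⁻¹ = X7 ^ (3 ^ n) := by
    intro n
    induction n with
    | zero => simp
    | succ n ih =>
      calc h ^ (n + 1) * X7 * (h ^ (n + 1))⁻¹ = h * (h ^ n * X7 * (h ^ n)⁻¹) * h⁻¹ := by
            rw [pow_succ' h n]; group
        _ = (h * X7 * h⁻¹) ^ (3 ^ n) := by rw [ih, conj_pow]
        _ = X7 ^ (3 ^ (n + 1)) := by rw [hh, ← pow_mul, pow_succ']
  rw [h1 3, eq_inv_iff_mul_eq_one, ← pow_succ]
  exact orderOf_dvd_iff_pow_eq_one.1 (by rw [order_X7]; norm_num)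

theorem row_seven : RowZ 7 Spor.HN := by
  have := H839.Rec.HN.fin_HN
  exact H852.RatB.rowZ_seven_of_real (by rw [H839.Rec.HN.card_HN]; norm_num) order_X7 real_seven

theorem e_seven [Finite Spor.HN] (P : Sylow 7 Spor.HN) (hP : Nat.card P = 7) :
    (centralizer (P : Set Spor.HN)).relIndex (normalizer (P : Set Spor.HN)) = 6 := by
  have h7 : Fact (Nat.Prime 7) := ⟨by norm_num⟩
  obtain ⟨h, hh⟩ := exists_three
  have h1 := pow_relIndex P hP order_X7 hh
  have h2 : (centralizer (P : Set Spor.HN)).relIndex (normalizer (P : Set Spor.HN)) ∣ 7 - 1 :=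
    SmallSimple.BurnsideNC.relIndex_dvd_of_card_eq_prime P hP
  generalize (centralizer (P : Set Spor.HN)).relIndex (normalizer (P : Set Spor.HN)) = e at h1 h2 ⊢
  have h3 : e ≤ 6 := Nat.le_of_dvd (by norm_num) h2
  have h0 : e ≠ 0 := by rintro rfl; norm_num at h2
  interval_cases e <;> first | rfl | (exfalso; revert h1; decide) | omega

/-- elements of order divisible by 19 have order 19 -/
theorem of_19 {z : Spor.HN} (hz : 19 ∣ orderOf z) : orderOf z = 19 := by
  have := H839.Rec.HN.fin_HN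
  have h1 : orderOf (z ^ (orderOf z / 19)) = 19 := orderOf_pow_orderOf_div (orderOf_pos z).ne' hz
  have h3 : z ∈ centralizer ({z ^ (orderOf z / 19)} : Set Spor.HN) :=
    mem_centralizer_singleton_iff.2 ((Commute.refl z).pow_right _).eq
  have h4 := Subgroup.orderOf_dvd_natCard _ h3
  rw [H839.Rec.HN.sc_nineteen _ h1] at h4
  exact Nat.dvd_antisymm h4 hz

theorem conj_19 {z : Spor.HN} (hz : 19 ∣ orderOf z) {k : ℕ} (hk : k.Coprime (orderOf z)) :
    IsConj (z ^ (k ^ 2)) z := by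
  have := H839.Rec.HN.fin_HN
  have h19 : Fact (Nat.Prime 19) := ⟨by norm_num⟩
  have hz' := of_19 hz
  rw [hz'] at hk
  obtain ⟨P⟩ : Nonempty (Sylow 19 Spor.HN) := inferInstance
  have hP : Nat.card P = 19 := H852.RatB.card_sylow_of_not_sq (by rw [H839.Rec.HN.card_HN]; norm_num)
    (by rw [H839.Rec.HN.card_HN]; norm_num) P
  refine isConj_pow_sq P hP ?_ hz' hk
  have hC : Nat.card (centralizer (P : Set Spor.HN)) = 19 := by
    obtain ⟨c, hc⟩ := exists_conj_eq P hP hz'
    have h1 : (P : Set Spor.HN) = ((zpowers (c * z * c⁻¹) : Subgroup Spor.HN) : Set Spor.HN) :=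
      congrArg (fun K : Subgroup Spor.HN => (K : Set Spor.HN)) hc
    rw [h1, H904.SylOne.centralizer_zpowers_eq]
    refine H839.Rec.HN.sc_nineteen _ ?_
    rw [← hz']
    exact orderOf_injective (MulAut.conj c).toMonoidHom (MulAut.conj c).injective z
  rw [relIndex_eq_of_sylow P hP hC (e₀ := 9) (by rw [H839.Rec.HN.card_HN]; decide +kernel)]

theorem rows : RowZ 7 Spor.HN ∧ RowZ 11 Spor.HN := by
  have := H839.Rec.HN.fin_HN
  have hcard := H839.Rec.HN.card_HN
  have := Fact.mk (show Nat.Prime 7 by norm_num)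
  have := Fact.mk (show Nat.Prime 11 by norm_num)
  have h7 : 7 ∣ Nat.card Spor.HN := by rw [hcard]; norm_num
  have h7' : ¬ 7 ^ 2 ∣ Nat.card Spor.HN := by rw [hcard]; norm_num
  have h11 : 11 ∣ Nat.card Spor.HN := by rw [hcard]; norm_num
  have h11' : ¬ 11 ^ 2 ∣ Nat.card Spor.HN := by rw [hcard]; norm_num
  refine rowZ_of_pair' (p := 7) (q := 11) (by norm_num) (by norm_num) (by norm_num) (by norm_num) (by norm_num)
    h7 h7' h11 h11' ?_ ?_ ?_ (frobAt (by norm_num) (by norm_num) h7 h7')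
    (frobAt (by norm_num) (by norm_num) h11 h11') ?_
  · exact fun P => Or.inl (e_seven P (H852.RatB.card_sylow_of_not_sq h7 h7' P))
  · exact fun P => cond_of_prim P (H852.RatB.card_sylow_of_not_sq h11 h11' P) (by decide)
  · exact fun z hz => H839.Rec.HN.no_seven (n := 77) (by norm_num) (by norm_num) ⟨z, hz⟩
  · intro g
    by_cases hg : 19 ∣ orderOf g
    · exact Or.inr fun k hk => ⟨1, conj_19 hg (by simpa using hk)⟩
    · refine Or.inl (H494.B0R.gen0_of_check (fac := [(2, 14), (3, 6), (5, 6), (7, 1), (11, 1), (19, 1)]) (bad := [19])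
        (by norm_num) (by norm_num) (by decide +kernel) ?_ ?_)
      · refine (orderOf_dvd_natCard g).trans ?_
        rw [card_eq]
        decide +kernel
      · intro d hd
        rw [List.mem_singleton] at hd
        rwa [hd]

/-- **the rows 7, 11 of the Harada–Norton group** -/
theorem row {S : Type u} [Group S] [Finite S] (h : Spor.IsoHN S) {p : ℕ} (hp : p = 7 ∨ p = 11) :
    RowZ p S := by
  obtain ⟨e⟩ := h
  rcases hp with rfl | rfl
  · exact H646.BR.rowZ_congr e rows.1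
  · exact H646.BR.rowZ_congr e rows.2

end Cfsg.Agent.H725.BR.HN
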