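import Cfsg.Agent.H303.MaxThThirteen

/-!
# `Th` : the normaliser of a subgroup of order 13 induces the full automorphism group (helper725)

`(t w)⁻¹ v (t w) = v²` for explicit words `v`, `w` in the generators of `³D₄(2)` and the generator `t` of order 3,
checked with the permutations of degree 819.
-/

set_option autoImplicit false

namespace Cfsg.Agent.H725.BR.ThThirteen

open Subgroup
open Cfsg.Agent.Th.Base Cfsg.Agent.Th.Word Cfsg.Agent.Th.PermTab Cfsg.Agent.Th.KOracle Cfsg.Agent.Th.D4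
  Cfsg.Agent.Th.D4Perm Cfsg.Agent.Th.D4Simple Cfsg.Agent.Th.D4Main Cfsg.Agent.Th.IndexUpper
open Cfsg.Agent.H303.MaxTh (v rp ev_rp isK_v13 chk_v13 ne_v eq_one)

/-- a word is trivial in `Th` iff it is trivial on the 819 points -/
theorem ev_gTh_eq_one_iff {w : List ℕ} (hw : ∀ x ∈ w, isK x = true) : ev (rho isTab) w = 1 ↔ ev gTh w = 1 := by
  have hc : Nat.card (Subgroup.closure ({gTh 1, gTh 2, gTh 3, gTh 4, gTh 5, gTh 6, gTh 8} : Set Cfsg.Spor.Th)) =
      634023936 := by
    rw [← sub_isK_eq gTh_inv]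
    exact Cfsg.Agent.Th.Final.main.2.2.1
  have hP := relK_prod gTh_relK relP
  obtain ⟨hfin, hle⟩ := Cfsg.Agent.Th.Bounds.cardK hP
  set S : Subgroup (Cfsg.Spor.Th × Equiv.Perm (Fin 819)) := Subgroup.closure {(gTh 1, r 1), (gTh 2, r 2), (gTh 3, r 3),
    (gTh 4, r 4), (gTh 5, r 5), (gTh 6, r 6), (gTh 8, r 8)} with hS
  have m1 : S.map (MonoidHom.fst Cfsg.Spor.Th (Equiv.Perm (Fin 819))) =
      Subgroup.closure ({gTh 1, gTh 2, gTh 3, gTh 4, gTh 5, gTh 6, gTh 8} : Set Cfsg.Spor.Th) := by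
    rw [hS, MonoidHom.map_closure]
    simp only [Set.image_insert_eq, Set.image_singleton, MonoidHom.coe_fst]
  have m2 : S.map (MonoidHom.snd Cfsg.Spor.Th (Equiv.Perm (Fin 819))) = PK := by
    rw [hS, MonoidHom.map_closure]
    simp only [Set.image_insert_eq, Set.image_singleton, MonoidHom.coe_snd]
    rfl
  have i1 := inj_of_card S (MonoidHom.fst Cfsg.Spor.Th (Equiv.Perm (Fin 819))) (by rw [m1, hc]; exact hle)
  have i2 := inj_of_card S (MonoidHom.snd Cfsg.Spor.Th (Equiv.Perm (Fin 819))) (by rw [m2, card_PK]; exact hle)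
  have hi := invCompat_pair gTh_inv (rho_invCompat isTab)
  have h1 : ev (fun x => (gTh x, rho isTab x)) w ∈ S := by
    rw [hS]
    have h2 := ev_mem_sub (γ := fun x => (gTh x, rho isTab x)) hw
    rwa [sub_isK_eq hi] at h2
  have h5 : (ev (fun x => (gTh x, rho isTab x)) w).1 = ev gTh w := by rw [ev_pair]
  have h6 : (ev (fun x => (gTh x, rho isTab x)) w).2 = ev (rho isTab) w := by rw [ev_pair]
  rw [← h5, ← h6]
  constructor
  · intro h
    have h3 : (⟨ev (fun x => (gTh x, rho isTab x)) w, h1⟩ : S) = 1 := i2 h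
    exact congrArg (fun z : S => ((z : Cfsg.Spor.Th × Equiv.Perm (Fin 819))).1) h3
  · intro h
    have h3 : (⟨ev (fun x => (gTh x, rho isTab x)) w, h1⟩ : S) = 1 := i1 h
    exact congrArg (fun z : S => ((z : Cfsg.Spor.Th × Equiv.Perm (Fin 819))).2) h3

/-- the inverse of an element inducing an automorphism of order 12 -/
def g : List ℕ := [8, 1, 2, 3, 2, 5, 4, 3, 4, 7, 5, 4, 3, 2, 4, 6, 5, 3]

theorem isK_v : ∀ x ∈ v, isK x = true := by decide +kernel

theorem isK_rel : ∀ x ∈ iw g ++ (v ++ (g ++ iw (rp v 2))), isK x = true := by decide +kernel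

theorem chk_rel : allB 819 (fun p => Nat.beq (tr act (iw g ++ (v ++ (g ++ iw (rp v 2)))) p) p) = true := by
  decide +kernel

/-- **an element of order 13 with its square conjugate to it** -/
theorem exists_two : ∃ x h : Cfsg.Spor.Th, orderOf x = 13 ∧ h * x * h⁻¹ = x ^ 2 := by
  have h13 : Fact (Nat.Prime 13) := ⟨by norm_num⟩
  refine ⟨ev gTh v, (ev gTh g)⁻¹, ?_, ?_⟩
  · apply orderOf_eq_prime
    · rw [← ev_rp]
      exact (ev_gTh_eq_one_iff isK_v13).1 (eq_one isK_v13 chk_v13)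
    · intro h
      have h1 := (ev_gTh_eq_one_iff isK_v).2 h
      have h2 := ev_rho_inv_apply isTab (w := v) isK_v (0 : Fin 819)
      rw [h1, inv_one] at h2
      exact Nat.ne_of_beq_eq_false ne_v h2.symm
  · have h1 := (ev_gTh_eq_one_iff isK_rel).1 (eq_one isK_rel chk_rel)
    rw [ev_append, ev_append, ev_append, ev_iw gTh_inv, ev_iw gTh_inv, ev_rp] at h1
    rw [inv_inv, ← mul_inv_eq_one, ← h1]
    group

end Cfsg.Agent.H725.BR.ThThirteen
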