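import Cfsg.Agent.H725.BR.Tool
import Cfsg.Agent.H725.BR.ThThirteen
import Cfsg.Agent.H494.B0R.Inst
import Cfsg.Agent.H513.AbTh
import Cfsg.Agent.H981.SCTh
import Cfsg.Agent.H657.Frob.Main
import Cfsg.Agent.H646.BR.Congr

/-!
# Rows of the Thompson group for 13, 19, 31 (helper725)
-/

set_option autoImplicit false
set_option maxRecDepth 100000

open Subgroup

namespace Cfsg.Agent.H725.BR.Th

open Cfsg Cfsg.Agent.H145.BR Cfsg.Agent.H713.B0R Cfsg.Agent.H537.Cop

universe u

theorem frobAt {p : ℕ} (hp : p.Prime) (hp2 : p ≠ 2) {G : Type u} [Group G] [Finite G] (h1 : p ∣ Nat.card G)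
    (h2 : ¬ p ^ 2 ∣ Nat.card G) : FrobAt p G := by
  have := Fact.mk hp
  exact fun M hM => H657.Frob.frob hM hp2 h1 h2

theorem card_eq : Nat.card Spor.Th = 2 ^ 15 * 3 ^ 10 * 5 ^ 3 * 7 ^ 2 * 13 * 19 * 31 := by
  rw [H513.NilpTh.card]
  norm_num

/-- the order of an element divides the order of the centralizer of each of its powers -/
theorem dvd_cent {T : Type*} [Group T] [Finite T] {p : ℕ} {z : T} (hz : p ∣ orderOf z) :
    orderOf (z ^ (orderOf z / p)) = p ∧
      orderOf z ∣ Nat.card (centralizer ({z ^ (orderOf z / p)} : Set T)) := by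
  refine ⟨orderOf_pow_orderOf_div (orderOf_pos z).ne' hz, ?_⟩
  refine Subgroup.orderOf_dvd_natCard _ (mem_centralizer_singleton_iff.2 ?_)
  exact ((Commute.refl z).pow_right _).eq

theorem of_19 {z : Spor.Th} (hz : 19 ∣ orderOf z) : orderOf z ∣ 19 := by
  have := H513.NilpTh.finite
  obtain ⟨h1, h2⟩ := dvd_cent hz
  rwa [H981.SCTh.sc_th _ h1] at h2

theorem of_31 {z : Spor.Th} (hz : 31 ∣ orderOf z) : orderOf z ∣ 3 ^ 10 * 13 * 19 * 31 := by
  have := H513.NilpTh.finite
  obtain ⟨h1, h2⟩ := dvd_cent hz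
  exact h2.trans (H513.AbTh.cent_dvd' (by norm_num) h1 (by norm_num) (by norm_num) (by norm_num))

theorem ne_403 (z : Spor.Th) : orderOf z ≠ 13 * 31 := by
  have := H513.NilpTh.finite
  intro hz
  obtain ⟨h1, h2⟩ := dvd_cent (p := 31) (z := z) (by rw [hz]; norm_num)
  exact H513.AbTh.not_dvd_13_31 h1 (dvd_trans (by rw [hz]; norm_num) h2)

theorem e_thirteen [Finite Spor.Th] (P : Sylow 13 Spor.Th) (hP : Nat.card P = 13) :
    (centralizer (P : Set Spor.Th)).relIndex (normalizer (P : Set Spor.Th)) = 12 := by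
  have h13 : Fact (Nat.Prime 13) := ⟨by norm_num⟩
  obtain ⟨x, h, hx, hh⟩ := ThThirteen.exists_two
  have h1 := pow_relIndex P hP hx hh
  have h2 : (centralizer (P : Set Spor.Th)).relIndex (normalizer (P : Set Spor.Th)) ∣ 13 - 1 :=
    SmallSimple.BurnsideNC.relIndex_dvd_of_card_eq_prime P hP
  generalize (centralizer (P : Set Spor.Th)).relIndex (normalizer (P : Set Spor.Th)) = e at h1 h2 ⊢
  have h3 : e ≤ 12 := Nat.le_of_dvd (by norm_num) h2
  have h0 : e ≠ 0 := by rintro rfl; norm_num at h2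
  interval_cases e <;> first | rfl | (exfalso; revert h1; decide) | omega

theorem rows_13_19 : RowZ 13 Spor.Th ∧ RowZ 19 Spor.Th := by
  have := H513.NilpTh.finite
  have hcard := H513.NilpTh.card
  have := Fact.mk (show Nat.Prime 13 by norm_num)
  have := Fact.mk (show Nat.Prime 19 by norm_num)
  have h13 : 13 ∣ Nat.card Spor.Th := by rw [hcard]; norm_num
  have h13' : ¬ 13 ^ 2 ∣ Nat.card Spor.Th := by rw [hcard]; norm_num
  have h19 : 19 ∣ Nat.card Spor.Th := by rw [hcard]; norm_num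
  have h19' : ¬ 19 ^ 2 ∣ Nat.card Spor.Th := by rw [hcard]; norm_num
  refine rowZ_of_pair (p := 13) (q := 19) (by norm_num) (by norm_num) (by norm_num) (by norm_num) (by norm_num)
    h13 h13' h19 h19' ?_ ?_ ?_ (frobAt (by norm_num) (by norm_num) h13 h13')
    (frobAt (by norm_num) (by norm_num) h19 h19') ?_
  · exact fun P => cond_of_prim P (H852.RatB.card_sylow_of_not_sq h13 h13' P) (by decide)
  · exact fun P => cond_of_prim P (H852.RatB.card_sylow_of_not_sq h19 h19' P) (by decide)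
  · intro z hz
    have h1 := of_19 (z := z) (by rw [hz]; norm_num)
    rw [hz] at h1
    exact absurd h1 (by norm_num)
  · refine H494.B0R.Th_13_19 card_eq fun g d hd => ?_
    rw [List.mem_singleton] at hd
    subst hd
    intro hd
    exact absurd (hd.trans (of_31 (dvd_trans (by norm_num) hd))) (by norm_num)

theorem rows_13_31 : RowZ 13 Spor.Th ∧ RowZ 31 Spor.Th := by
  have := H513.NilpTh.finite
  have hcard := H513.NilpTh.card
  have := Fact.mk (show Nat.Prime 13 by norm_num)
  have := Fact.mk (show Nat.Prime 31 by norm_num)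
  have h13 : 13 ∣ Nat.card Spor.Th := by rw [hcard]; norm_num
  have h13' : ¬ 13 ^ 2 ∣ Nat.card Spor.Th := by rw [hcard]; norm_num
  have h31 : 31 ∣ Nat.card Spor.Th := by rw [hcard]; norm_num
  have h31' : ¬ 31 ^ 2 ∣ Nat.card Spor.Th := by rw [hcard]; norm_num
  refine rowZ_of_pair (p := 13) (q := 31) (by norm_num) (by norm_num) (by norm_num) (by norm_num) (by norm_num)
    h13 h13' h31 h31' ?_ ?_ ?_ (frobAt (by norm_num) (by norm_num) h13 h13')
    (frobAt (by norm_num) (by norm_num) h31 h31') ?_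
  · exact fun P => Or.inl (e_thirteen P (H852.RatB.card_sylow_of_not_sq h13 h13' P))
  · exact fun P => cond_of_prim P (H852.RatB.card_sylow_of_not_sq h31 h31' P) (by decide)
  · exact ne_403
  · refine H494.B0R.Th_13_31 card_eq fun g d hd => ?_
    rw [List.mem_singleton] at hd
    subst hd
    intro hd
    exact absurd (hd.trans (of_19 (dvd_trans (by norm_num) hd))) (by norm_num)

/-- **the rows 13, 19, 31 of the Thompson group** -/
theorem row {S : Type u} [Group S] [Finite S] (h : Spor.IsoTh S) {p : ℕ} (hp : p = 13 ∨ p = 19 ∨ p = 31) :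
    RowZ p S := by
  obtain ⟨e⟩ := h
  rcases hp with rfl | rfl | rfl
  · exact H646.BR.rowZ_congr e rows_13_19.1
  · exact H646.BR.rowZ_congr e rows_13_19.2
  · exact H646.BR.rowZ_congr e rows_13_31.2

end Cfsg.Agent.H725.BR.Th
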