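import Cfsg.Agent.H713.B0R.Tool

/-!
# The inertial index of a Sylow subgroup of prime order, from one conjugation (helper725)

* `pow_relIndex` : `h x h⁻¹ = x ^ k` with `x` of order `p`, `|P| = p` gives `k ^ |N(P) : C(P)| ≡ 1` modulo `p`.
* `isConj_inv_of_even` : an even inertial index makes the elements of `P` real.
-/

set_option autoImplicit false

open Subgroup

namespace Cfsg.Agent.H725.BR

variable {G : Type*} [Group G] [Finite G]

theorem mem_normalizer_of_conj {x h : G} (hh : h * x * h⁻¹ ∈ zpowers x) :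
    h ∈ normalizer ((zpowers x : Subgroup G) : Set G) := by
  rw [mem_normalizer_iff_map_conj_eq]
  apply eq_of_le_of_card_ge
  · rintro _ ⟨_, ⟨n, rfl⟩, rfl⟩
    show h * x ^ n * h⁻¹ ∈ zpowers x
    rw [← conj_zpow]
    exact zpow_mem hh n
  · rw [card_map_of_injective (MulAut.conj h).injective]

theorem pow_relIndex_aux {x h : G} {k : ℕ} (hh : h * x * h⁻¹ = x ^ k) :
    k ^ (centralizer ((zpowers x : Subgroup G) : Set G)).relIndex
      (normalizer ((zpowers x : Subgroup G) : Set G)) ≡ 1 [MOD orderOf x] := by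
  have hN : h ∈ normalizer ((zpowers x : Subgroup G) : Set G) :=
    mem_normalizer_of_conj (by rw [hh]; exact pow_mem (mem_zpowers x) k)
  set e := (centralizer ((zpowers x : Subgroup G) : Set G)).relIndex
      (normalizer ((zpowers x : Subgroup G) : Set G)) with he
  have h1 : h ^ e ∈ centralizer ((zpowers x : Subgroup G) : Set G) :=
    ((centralizer ((zpowers x : Subgroup G) : Set G)).subgroupOf
      (normalizer ((zpowers x : Subgroup G) : Set G))).pow_index_mem ⟨h, hN⟩
  have h3 : ∀ n : ℕ, h ^ n * x * (h ^ n)⁻¹ = x ^ (k ^ n) := by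
    intro n
    induction n with
    | zero => simp
    | succ n ih =>
      calc h ^ (n + 1) * x * (h ^ (n + 1))⁻¹ = h * (h ^ n * x * (h ^ n)⁻¹) * h⁻¹ := by
            rw [pow_succ' h n]; group
        _ = (h * x * h⁻¹) ^ (k ^ n) := by rw [ih, conj_pow]
        _ = x ^ (k ^ (n + 1)) := by rw [hh, ← pow_mul, pow_succ']
  have h4 := mem_centralizer_iff.1 h1 x (mem_zpowers x)
  have h5 : x ^ (k ^ e) = x ^ 1 := by
    rw [← h3 e, pow_one, ← h4, mul_inv_cancel_right]
  exact pow_eq_pow_iff_modEq.1 h5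

/-- a Sylow subgroup of prime order is generated by a conjugate of any given element of order `p` -/
theorem exists_conj_eq {p : ℕ} [hp : Fact p.Prime] (P : Sylow p G) (hP : Nat.card P = p) {x : G}
    (hx : orderOf x = p) : ∃ c : G, (P : Subgroup G) = zpowers (c * x * c⁻¹) := by
  have hcard : Nat.card (zpowers x) = p := by rw [Nat.card_zpowers, hx]
  obtain ⟨Q, hQ⟩ := (IsPGroup.of_card (p := p) (n := 1) (by rw [hcard, pow_one]) :
    IsPGroup p (zpowers x)).exists_le_sylow
  obtain ⟨c, hc⟩ := MulAction.exists_smul_eq G Q P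
  refine ⟨c, ?_⟩
  have ho : orderOf (c * x * c⁻¹) = p := by
    rw [← hx]
    exact orderOf_injective (MulAut.conj c).toMonoidHom (MulAut.conj c).injective x
  have h1 : c * x * c⁻¹ ∈ (P : Subgroup G) := by
    have h2 : x ∈ (Q : Subgroup G) := hQ (mem_zpowers x)
    have h3 := Subgroup.smul_mem_pointwise_smul x (MulAut.conj c) (Q : Subgroup G) h2
    rw [MulAut.smul_def, MulAut.conj_apply] at h3
    rw [← hc]
    exact h3
  refine (Subgroup.eq_of_le_of_card_ge (by rwa [zpowers_le]) ?_).symm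
  rw [Nat.card_zpowers, ho]
  exact hP.le

/-- **the automorphism `x ↦ x ^ k` bounds the inertial index from below** -/
theorem pow_relIndex {p : ℕ} [hp : Fact p.Prime] (P : Sylow p G) (hP : Nat.card P = p) {x h : G}
    (hx : orderOf x = p) {k : ℕ} (hh : h * x * h⁻¹ = x ^ k) :
    k ^ (centralizer (P : Set G)).relIndex (normalizer (P : Set G)) ≡ 1 [MOD p] := by
  obtain ⟨c, hc⟩ := exists_conj_eq P hP hx
  have hPs : (P : Set G) = ((zpowers (c * x * c⁻¹) : Subgroup G) : Set G) :=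
    congrArg (fun K : Subgroup G => (K : Set G)) hc
  have ho : orderOf (c * x * c⁻¹) = p := by
    rw [← hx]
    exact orderOf_injective (MulAut.conj c).toMonoidHom (MulAut.conj c).injective x
  have h1 := pow_relIndex_aux (x := c * x * c⁻¹) (h := c * h * c⁻¹) (k := k) (by
    rw [conj_pow, ← hh]; group)
  rw [ho] at h1
  rw [hPs]
  exact h1

/-- the squares in `Aut(P)` are induced if the inertial index is `(p - 1) / 2` -/
theorem isConj_pow_sq {p : ℕ} [hp : Fact p.Prime] (P : Sylow p G) (hP : Nat.card P = p)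
    (he : (centralizer (P : Set G)).relIndex (normalizer (P : Set G)) * 2 = p - 1) {x : G} (hx : orderOf x = p)
    {k : ℕ} (hk : k.Coprime p) : IsConj (x ^ (k ^ 2)) x := by
  obtain ⟨c, hc⟩ := exists_conj_eq P hP hx
  have hcyc : IsCyclic (P : Subgroup G) := isCyclic_of_prime_card hP
  have hcomm : ∀ a b : MulAut (P : Subgroup G), a * b = b * a := by
    intro a b
    have e := IsCyclic.mulAutMulEquiv (P : Subgroup G)
    apply e.injective
    rw [map_mul, map_mul, mul_comm]
  have h1 : (((P : Subgroup G).normalizerMonoidHom).range).index = 2 := by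
    have h2 : Nat.card ((P : Subgroup G).normalizerMonoidHom).range =
        (centralizer (P : Set G)).relIndex (normalizer (P : Set G)) := by
      rw [← index_ker, normalizerMonoidHom_ker]
      rfl
    have h3 := card_mul_index ((P : Subgroup G).normalizerMonoidHom).range
    rw [hcyc.card_mulAut, h2, hP, Nat.totient_prime hp.out, ← he] at h3
    have h4 : 0 < (centralizer (P : Set G)).relIndex (normalizer (P : Set G)) := by
      rw [← h2]; exact Nat.card_pos
    exact Nat.eq_of_mul_eq_mul_left h4 h3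
  have hcop : (Nat.card (P : Subgroup G)).Coprime k := by rw [hP]; exact hk.symm
  let α : MulAut (P : Subgroup G) :=
    { powCoprime hcop with
      map_mul' := fun a b => by
        have h5 : Commute a b := hcyc.commGroup.mul_comm a b
        exact h5.mul_pow k }
  have hα : ∀ a, α a = a ^ k := fun a => rfl
  obtain ⟨n, hn⟩ := sq_mem_of_index_two h1 α
  have hxP : c * x * c⁻¹ ∈ (P : Subgroup G) := by rw [hc]; exact mem_zpowers _
  have h6 := congrArg (fun β : MulAut (P : Subgroup G) => ((β ⟨c * x * c⁻¹, hxP⟩ : (P : Subgroup G)) : G)) hn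
  have h7 : (n : G) * (c * x * c⁻¹) * (n : G)⁻¹ = (c * x * c⁻¹) ^ (k ^ 2) := by
    refine h6.trans ?_
    show ((α (α ⟨c * x * c⁻¹, hxP⟩) : (P : Subgroup G)) : G) = _
    rw [hα, hα, ← pow_mul, pow_two]
    rfl
  have h8 : IsConj (x ^ (k ^ 2)) ((c * x * c⁻¹) ^ (k ^ 2)) := isConj_iff.2 ⟨c, by rw [conj_pow]⟩
  have h9 : IsConj (c * x * c⁻¹) ((c * x * c⁻¹) ^ (k ^ 2)) := isConj_iff.2 ⟨n, h7⟩
  have h10 : IsConj x (c * x * c⁻¹) := isConj_iff.2 ⟨c, rfl⟩
  exact h8.trans (h9.symm.trans h10.symm)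

/-- the inertial index from Sylow's theorem, for a self-centralizing Sylow subgroup -/
theorem relIndex_eq_of_sylow {p : ℕ} [hp : Fact p.Prime] (P : Sylow p G) (hP : Nat.card P = p)
    (hC : Nat.card (centralizer (P : Set G)) = p) {e₀ : ℕ}
    (h : ∀ e ∈ Nat.divisors (p - 1), Nat.card G / (p * e) % p = 1 → e = e₀) :
    (centralizer (P : Set G)).relIndex (normalizer (P : Set G)) = e₀ := by
  have h1 : (centralizer (P : Set G)).relIndex (normalizer (P : Set G)) ∣ p - 1 :=
    SmallSimple.BurnsideNC.relIndex_dvd_of_card_eq_prime P hP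
  refine h _ (Nat.mem_divisors.2 ⟨h1, ?_⟩) ?_
  · have := hp.out.two_le
    omega
  · have h2 : Nat.card (centralizer (P : Set G)) * (centralizer (P : Set G)).relIndex (normalizer (P : Set G)) =
        Nat.card (normalizer (P : Set G)) := by
      have h1 := relIndex_mul_relIndex (⊥ : Subgroup G) _ _ bot_le (centralizer_le_normalizer (P : Set G))
      rwa [relIndex_bot_left, relIndex_bot_left] at h1
    rw [hC] at h2
    have h3 := card_sylow_modEq_one p G
    have h4 : Nat.card (Sylow p G) = (normalizer (P : Set G)).index := P.card_eq_index_normalizer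
    have h5 := card_mul_index (normalizer (P : Set G))
    rw [h2, ← h5, Nat.mul_div_cancel_left _ Nat.card_pos, ← h4]
    have h6 := h3
    rw [Nat.ModEq, Nat.mod_eq_of_lt hp.out.one_lt] at h6
    exact h6

end Cfsg.Agent.H725.BR

namespace Cfsg.Agent.H725.BR

open Cfsg Cfsg.Agent.H602.B0R Cfsg.Agent.H145.BR Cfsg.Agent.H713.B0R

universe u

variable {G : Type u} [Group G] [Finite G]

/-- the engine with a direct condition on some elements -/
theorem out_of_gen0' {p q : ℕ} {M M' : Ideal AlgInt} (h : Pair G p q M M')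
    (hg : ∀ g : G, Gen0 (orderOf g) p q ∨
      ∀ k : ℕ, k.Coprime (orderOf g) → ∃ c : ℕ, IsConj (g ^ (k ^ 2 ^ c)) g) : Out p q M M' G := by
  have := Fact.mk h.hp
  have := Fact.mk h.hq
  obtain ⟨P⟩ : Nonempty (Sylow p G) := inferInstance
  obtain ⟨Q⟩ : Nonempty (Sylow q G) := inferInstance
  refine h.out_of_fix fun χ hχ k hk => fix_of_local (fun g k hk => ?_) hk
  have : NeZero (orderOf g) := ⟨(orderOf_pos g).ne'⟩
  have hk' : k.Coprime (orderOf g) := hk.coprime_dvd_right (orderOf_dvd_natCard g)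
  rcases hg g with hg | hg
  · obtain ⟨hn, hn'⟩ := h.ne_both hχ.1 hχ.2.1
    obtain ⟨h1, h2⟩ := local_cond P (h.sylp P).1 h.frobp hχ.1 hn g
    obtain ⟨h3, h4⟩ := local_cond Q (h.sylq Q).1 h.frobq hχ.2.1 hn' g
    obtain ⟨c, hc⟩ := hg (locStab χ g) h1 h2 h3 h4 (ZMod.unitOfCoprime k hk')
    refine ⟨c, ?_⟩
    rw [mem_locStab] at hc
    rw [← hc]
    exact congrArg _ (pow_eq_of_modEq dvd_rfl ((val_pow_modEq _ _).trans ((val_unitOfCoprime hk').pow _)).symm)
  · obtain ⟨c, hc⟩ := hg k hk'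
    exact ⟨c, apply_eq_of_isConj χ hc⟩

/-- **both rows of a pair**, with a direct condition on some elements -/
theorem rowZ_of_pair' {p q : ℕ} (hp : p.Prime) (hq : q.Prime) (hpq : p ≠ q) (hp2 : p ≠ 2) (hq2 : q ≠ 2)
    (hpG : p ∣ Nat.card G) (hpG2 : ¬ p ^ 2 ∣ Nat.card G) (hqG : q ∣ Nat.card G) (hqG2 : ¬ q ^ 2 ∣ Nat.card G)
    (cp : ∀ P : Sylow p G, (centralizer (P : Set G)).relIndex (normalizer (P : Set G)) = p - 1 ∨
      ¬ q ^ (centralizer (P : Set G)).relIndex (normalizer (P : Set G)) ≡ 1 [MOD p])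
    (cq : ∀ Q : Sylow q G, (centralizer (Q : Set G)).relIndex (normalizer (Q : Set G)) = q - 1 ∨
      ¬ p ^ (centralizer (Q : Set G)).relIndex (normalizer (Q : Set G)) ≡ 1 [MOD q])
    (hno : ∀ g : G, orderOf g ≠ p * q) (fp : FrobAt p G) (fq : FrobAt q G)
    (hg : ∀ g : G, Gen0 (orderOf g) p q ∨
      ∀ k : ℕ, k.Coprime (orderOf g) → ∃ c : ℕ, IsConj (g ^ (k ^ 2 ^ c)) g) : RowZ p G ∧ RowZ q G := by
  have := Fact.mk hp
  have := Fact.mk hq
  have hcp : ∀ P : Sylow p G, Nat.card P = p := fun P => H852.RatB.card_sylow_of_not_sq hpG hpG2 P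
  have hcq : ∀ Q : Sylow q G, Nat.card Q = q := fun Q => H852.RatB.card_sylow_of_not_sq hqG hqG2 Q
  have hout : ∀ M M' : Ideal AlgInt, IsPModular p M → IsPModular q M' → Out p q M M' G := fun M M' hM hM' =>
    out_of_gen0' (Pair.mk hp hq hpq hp2 hq2 hM hM' (fun P => ⟨hcp P, cp P⟩) (fun Q => ⟨hcq Q, cq Q⟩) hno (fp M hM)
      (fq M' hM')) hg
  obtain ⟨M₀, hM₀⟩ := Cfsg.Agent.Blocks.ExistsModular.exists_isPModular hp
  obtain ⟨M₁, hM₁⟩ := Cfsg.Agent.Blocks.ExistsModular.exists_isPModular hq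
  obtain ⟨P⟩ : Nonempty (Sylow p G) := inferInstance
  obtain ⟨Q⟩ : Nonempty (Sylow q G) := inferInstance
  have hrat : ∀ {z : ℂ}, (∃ k : ℤ, z = k) → ∃ r : ℚ, z = r := by
    rintro z ⟨k, rfl⟩
    exact ⟨(k : ℚ), by push_cast; rfl⟩
  constructor
  · refine H852.RatB.rowZ_of_ratB hp2 P (hcp P) fun M hM => ?_
    obtain ⟨χ, h1, -, h3, -, -, -, h7⟩ := hout M M₁ hM hM₁
    exact ⟨χ, h1, h3, fun g => hrat (h7 g)⟩
  · refine H852.RatB.rowZ_of_ratB hq2 Q (hcq Q) fun M hM => ?_
    obtain ⟨χ, -, h2, h3, -, -, -, h7⟩ := hout M₀ M hM₀ hM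
    exact ⟨χ, h2, h3, fun g => hrat (h7 g)⟩

end Cfsg.Agent.H725.BR
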